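import Groth.Agent.Lib.StQuotDiag14.Basic
import Groth.Agent.Lib.StAlg.DiagApps
import Groth.Agent.Lib.AlgSpace.Affine
import Groth.Agent.Lib.QA11.Basic
import Groth.Agent.Lib.StAlg16.LocPInst
import Groth.Agent.Lib.StAlg16.Squares

/-! Quasi-affine morphisms of algebraic spaces: composition, and quasi-affine diagonals by charts. -/

universe u

open CategoryTheory CategoryTheory.Functor CategoryTheory.Limits AlgebraicGeometry Opposite

set_option linter.style.haveILetI false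
set_option linter.unusedSectionVars false
set_option backward.isDefEq.respectTransparency false
set_option backward.isDefEq.respectTransparency.types false

namespace Groth.Agent.QAMor14

abbrev QAHom : MorphismProperty Scheme.{u} := fun _ _ f => Mor2.IsQuasiAffine f

theorem qa_of_iso {X Y : Scheme.{u}} (f : X ⟶ Y) [IsIso f] : Mor2.IsQuasiAffine f :=
  QA11.of_isEmbedding f f.homeomorph.isEmbedding

theorem qa_of_isAffineHom {X Y : Scheme.{u}} (f : X ⟶ Y) [IsAffineHom f] : Mor2.IsQuasiAffine f :=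
  ⟨inferInstance, fun V hV => by
    haveI : IsAffine (f ⁻¹ᵁ V).toScheme := hV.preimage f
    infer_instance⟩

instance : (QAHom.{u}).IsStableUnderComposition := ⟨fun _ _ hf hg => QA11.comp hf hg⟩

instance : (QAHom.{u}).IsStableUnderBaseChange where
  of_isPullback {Y Y' X' X f g f' g'} sq hg := by
    show Mor2.IsQuasiAffine g'
    rw [← sq.isoPullback_hom_snd]
    exact QA11.comp (qa_of_iso _) (QA11.baseChange hg f)

instance : (QAHom.{u}).RespectsIso := inferInstance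

instance : IsZariskiLocalAtTarget QAHom.{u} := by
  refine IsZariskiLocalAtTarget.mk' (fun f U hf =>
    MorphismProperty.of_isPullback (P := QAHom) (isPullback_morphismRestrict f U).flip hf) ?_
  intro X Y f ι U hU H
  haveI : QuasiCompact f := IsZariskiLocalAtTarget.of_iSup_eq_top (P := @QuasiCompact) U hU fun i => (H i).1
  refine Descend.isQuasiAffine_of_cover f (fun j : { W : Y.Opens // IsAffineOpen W ∧ ∃ i, W ≤ U i } => j.1)
    (fun y => ?_) fun ⟨W, hW, i, hle⟩ => ?_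
  · obtain ⟨i, hi⟩ := TopologicalSpace.Opens.mem_iSup.1 (hU.ge (Set.mem_univ y))
    obtain ⟨W, hW, hyW, hle⟩ := exists_isAffineOpen_mem_and_subset (X := Y) (x := y) (U := U i) hi
    exact ⟨⟨W, hW, i, hle⟩, hyW⟩
  · have he : (U i).ι ''ᵁ ((U i).ι ⁻¹ᵁ W) = W := by
      rw [Scheme.Hom.image_preimage_eq_opensRange_inf, Scheme.Opens.opensRange_ι, inf_eq_right.2 hle]
    have hW' : IsAffineOpen ((U i).ι ⁻¹ᵁ W) := hW.preimage_of_isOpenImmersion _ (by simpa using hle)
    haveI := (H i).2 _ hW'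
    have e := image_morphismRestrict_preimage f (U i) ((U i).ι ⁻¹ᵁ W)
    rw [he] at e
    rw [← e]
    exact QA11.isQuasiAffine_of_iso ((f ⁻¹ᵁ U i).ι.isoImage _).inv

open Groth.Agent.FC16 Groth.Agent.StAlg Groth.Agent.AlgSpace AlgSp

variable {S : Scheme.{u}}

theorem isQuasiAffineMor_iff_repWith {F G : Sp S} {f : F ⟶ G} :
    IsQuasiAffineMor f ↔ RepWith QAHom f := by
  refine ⟨fun h => repWith_of_affine_family fun Z hZ g => ?_, fun h Z hZ g => ?_⟩
  · obtain ⟨W, i, fst, sq, hW⟩ := h hZ g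
    haveI : IsAffine Z.left := hZ
    refine ⟨W, i, fst, sq, ?_⟩
    haveI : CompactSpace W.left := inferInstance
    haveI : QuasiCompact i.left := quasiCompact_of_compactSpace i.left
    exact Descend.isQuasiAffine_of_cover i.left (fun _ : Unit => (⊤ : Z.left.Opens)) (fun _ => ⟨(), trivial⟩)
      fun _ => QA11.isQuasiAffine_of_iso W.left.topIso.hom
  · have sq := h.1.isPullback g
    haveI : ((h.1.snd g).left ⁻¹ᵁ ⊤).toScheme.IsQuasiAffine := (h.2 g _ _ sq).2 ⊤ (@isAffineOpen_top _ hZ)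
    exact ⟨_, _, _, sq, QA11.isQuasiAffine_of_iso (X := (h.1.pullback g).left) (Y := ((h.1.snd g).left ⁻¹ᵁ ⊤).toScheme) (h.1.pullback g).left.topIso.inv⟩

theorem goodP_isQuasiAffineMor : GoodP (S := S) IsQuasiAffineMor :=
  goodP_of_fpqc StQuotDiag14.pbP_isQuasiAffineMor
    (fun _ _ _ _ _ _ _ _ ha hb => isQuasiAffineMor_iff_repWith.2
      (repWith_comp (isQuasiAffineMor_iff_repWith.1 ha) (isQuasiAffineMor_iff_repWith.1 hb)))
    Gabber15.isLocalOnBase_fpqc_isQuasiAffineMor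

/-- a property of the structure map of a scheme -/
theorem with_toSelf_overCat {P : MorphismProperty (Sp S)} (hP : PbP P) (V : Over S)
    (h : P ((yon S).map (Over.homMk V.hom (by simp) : V ⟶ Over.mk (𝟙 S)))) :
    AlgSt.RepByAlgSpWith P (FibCat.toSelf (FibCat.overCat V)) := by
  let g : V ⟶ Over.mk (𝟙 S) := Over.homMk V.hom (by simp)
  obtain ⟨inv, hinv, -, -⟩ := exists_inverse (selfToTerm_isEquivOver (S := S))
  exact (with_congr (f := FibCat.toSelf (FibCat.overCat V))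
    (f' := Stk.ofPshMap (P := ((yon S).obj V).obj) ((yon S).map g).hom) (a := AlgSt.toOverCat V)
    (b := BasedFunctor.comp (AlgSt.toOverCat (Over.mk (𝟙 S))) inv) (toOverCat_isEquivOver V)
    (isEquivOver_comp (toOverCat_isEquivOver _) hinv) (eqToIso (selfOver_functor_eq _ _))).2
    (with_ofPshMap (repBySpWith_of_space hP (IsAlgSpace.yon_obj _) (IsAlgSpace.yon_obj _) h))

variable {𝒳 : AlgSt.Cat S}

theorem qa_affine_source [IsAffine S] (hg : FibCat.IsFibGrpd 𝒳.p)
    (hΔ : AlgSt.RepByAlgSpWith IsQuasiAffineMor (FibCat.diag (FibCat.toSelf 𝒳)))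
    {V : Over S} [IsAffine V.left] (v : FibCat.overCat V ⥤ᵇ 𝒳) : AlgSt.RepByAlgSpWith IsQuasiAffineMor v :=
  with_of_comp goodP_isQuasiAffineMor (isFibGrpd_of_rep (rep_overCat V)) hg selfOver_isFibGrpd
    (with_of_iso (eqToIso (selfOver_functor_eq _ _))
      (with_toSelf_overCat StQuotDiag14.pbP_isQuasiAffineMor V
        (isQuasiAffineMor_iff_repWith.2 ((AlgSp.repWith_yon_map_iff QAHom _).2
          (qa_of_isAffineHom V.hom))))) hΔ

/-- quasi-affine diagonal from a cover by affine charts with quasi-affine maps -/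
theorem diag_qa_of_cover [IsAffine S] (h𝒳 : AlgSt.IsAlgStack Scheme.fppfPrecoverage 𝒳) {U : Over S}
    {x : FibCat.overCat U ⥤ᵇ 𝒳} (hx₁ : AlgSt.RepByAlgSpWith (LocP @Flat) x)
    (hx₂ : AlgSt.RepByAlgSpWith (LocP @LocallyOfFinitePresentation) x)
    (hx₃ : AlgSt.RepByAlgSpWith IsSurjectiveMor x)
    (h : ∀ (V : U.left.Opens), IsAffineOpen V → AlgSt.RepByAlgSpWith IsQuasiAffineMor
      (BasedFunctor.comp (AlgSt.overMap (Over.homMk V.ι rfl : Over.mk (V.ι ≫ U.hom) ⟶ U)) x)) :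
    AlgSt.RepByAlgSpWith IsQuasiAffineMor (FibCat.diag (FibCat.toSelf 𝒳)) := fun T y => by
  have hg := h𝒳.isStack.1
  let t := FibCat.toSelf 𝒳
  have h2 := fp_isFibGrpd hg hg (selfOver_isFibGrpd (C := Over S)) t t
  have hloc := isLocalOnBase_fppf_of_fpqc (Gabber15.isLocalOnBase_fpqc_isQuasiAffineMor (S := S))
  obtain ⟨T', k, v, hc, ⟨i⟩⟩ := exists_cover_lift hg (isFibGrpd_of_rep (rep_overCat U)) hx₁ hx₂ hx₃ T
    (BasedFunctor.comp y (FibCat.fpFst t t))
  refine repOf_of_cover StQuotDiag14.pbP_isQuasiAffineMor hloc hg h2 h𝒳.diag y (fun _ => T') (fun _ => k) hc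
    fun _ => ?_
  -- the scheme map underlying `v`
  let a : T' ⟶ U := (AlgSp.yon S).preimage (ObjectProperty.homMk
    (mapOf (BasedFunctor.comp (AlgSt.toOverCat T') (BasedFunctor.comp v (AlgSt.ofOverCat U)))))
  have ha : v ≅ AlgSt.overMap a := by
    have e : ((AlgSp.yon S).map a).hom =
        mapOf (BasedFunctor.comp (AlgSt.toOverCat T') (BasedFunctor.comp v (AlgSt.ofOverCat U))) := by
      simp only [a, Functor.map_preimage]; rfl
    exact wrIso (eqToIso (ofOver_toOver T')).symm v ≪≫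
      wlIso (BasedFunctor.comp (AlgSt.ofOverCat T') (BasedFunctor.comp (AlgSt.toOverCat T') v))
        (eqToIso (ofOver_toOver U)).symm ≪≫
      wlIso (AlgSt.ofOverCat T') (wrIso (isoMapOf _ ≪≫ eqToIso (congrArg Stk.ofPshMap e.symm)) (AlgSt.toOverCat U) ≪≫
        overMapIso a) ≪≫ wrIso (eqToIso (ofOver_toOver T')) (AlgSt.overMap a)
  let J := { V : U.left.Opens // IsAffineOpen V }
  let W : J → Over S := fun V => Over.mk ((a.left ⁻¹ᵁ V.1).ι ≫ T'.hom)
  let j : ∀ V, W V ⟶ T' := fun V => Over.homMk (a.left ⁻¹ᵁ V.1).ι rfl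
  refine repOf_of_cover StQuotDiag14.pbP_isQuasiAffineMor hloc hg h2 h𝒳.diag _ W j ⟨fun V => ?_, fun p => ?_⟩
    fun V => ?_
  · haveI : IsOpenImmersion (j V).left := inferInstanceAs (IsOpenImmersion (a.left ⁻¹ᵁ V.1).ι)
    exact ⟨(StAlg16.locP_yon_iff (j V)).2 inferInstance, (StAlg16.locP_yon_iff (j V)).2 inferInstance⟩
  · obtain ⟨q, rfl⟩ := (Points.schemeHomeo T').surjective p
    obtain ⟨V, hV, hq, -⟩ := exists_isAffineOpen_mem_and_subset (X := U.left) (x := a.left q) (U := ⊤) trivial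
    exact ⟨⟨V, hV⟩, Points.schemeHomeo (W ⟨V, hV⟩) ⟨q, hq⟩, Points.map_yon_map_apply (j ⟨V, hV⟩) _⟩
  let X' : Over S := Over.mk (V.1.ι ≫ U.hom)
  let ιV : X' ⟶ U := Over.homMk V.1.ι rfl
  let xV := BasedFunctor.comp (AlgSt.overMap ιV) x
  haveI : IsAffine X'.left := V.2
  let r : W V ⟶ X' := Over.homMk (a.left.resLE V.1 (a.left ⁻¹ᵁ V.1) le_rfl) (by
    show a.left.resLE V.1 (a.left ⁻¹ᵁ V.1) le_rfl ≫ V.1.ι ≫ U.hom = (a.left ⁻¹ᵁ V.1).ι ≫ T'.hom
    rw [← Category.assoc, Scheme.Hom.resLE_comp_ι, Category.assoc, Over.w a])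
  have hr : r ≫ ιV = j V ≫ a := Over.OverMorphism.ext (Scheme.Hom.resLE_comp_ι _ _)
  let y₀ := BasedFunctor.comp (AlgSt.overMap (j V)) (BasedFunctor.comp (AlgSt.overMap k) y)
  let b := BasedFunctor.comp y₀ (FibCat.fpSnd t t)
  -- the comparison map for the chart
  let C := FibCat.fpLift (F := BasedFunctor.comp xV t) (G := BasedFunctor.comp b t)
    (FibCat.fpFst xV b) (FibCat.fpSnd xV b) (wrIso (FibCat.fpIso xV b) t)
  have hXV := isFibGrpd_of_rep (rep_overCat X')
  have hW := isFibGrpd_of_rep (rep_overCat (W V))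
  have hsep : AlgSt.RepByAlgSpWith IsSeparatedMor (BasedFunctor.comp xV t) :=
    with_of_iso (eqToIso (selfOver_functor_eq _ _))
      (with_toSelf_overCat pbP_isSeparatedMor X' ((AlgSp.isSeparatedMor_yon_map_iff _).2
        (inferInstanceAs (IsSeparated X'.hom))))
  have hC : AlgSt.RepByAlgSpWith IsQuasiAffineMor C :=
    with_of_comp (g := FibCat.fpSnd (BasedFunctor.comp xV t) (BasedFunctor.comp b t)) goodP_isQuasiAffineMor
      (fp_isFibGrpd hXV hW hg _ _) (fp_isFibGrpd hXV hW selfOver_isFibGrpd _ _) hW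
      (with_of_iso (Iso.refl _) (with_fpSnd b (h V.1 V.2)))
      (with_diag_of_rep1 StQuotDiag14.pbP_isQuasiAffineMor (with_fpSnd _ hsep) fun _ _ _ a' ha' =>
        isQuasiAffineMor_iff_repWith.2 (repWith_mono (fun _ _ f (_ : IsClosedImmersion f) => qa_of_isAffineHom f) ha'))
  have hpr := (with_cmp_iff (f := xV) (g := b) (t := t) (wrIso (FibCat.fpIso xV b) t) (fun _ => rfl)).2 hC
  let pt : FibCat.overCat (W V) ⥤ᵇ FibCat.fp (BasedFunctor.comp xV t) (BasedFunctor.comp b t) :=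
    FibCat.fpLift (AlgSt.overMap r) (BasedFunctor.id _) (eqToIso (selfOver_functor_eq _ _))
  let i₁ : BasedFunctor.comp y₀ (FibCat.fpFst t t) ≅ BasedFunctor.comp (AlgSt.overMap r) xV :=
    wlIso (AlgSt.overMap (j V)) (i ≪≫ wrIso ha x) ≪≫
      wrIso (StAlg16.overMapComp (j V) a ≪≫ eqToIso (congrArg AlgSt.overMap hr.symm) ≪≫
        (StAlg16.overMapComp r ιV).symm) x
  let pr : FibCat.fp (BasedFunctor.comp xV t) (BasedFunctor.comp b t) ⥤ᵇ FibCat.fp t t :=
    pair (Iso.refl (BasedFunctor.comp xV t)) (Iso.refl (BasedFunctor.comp b t))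
  exact repOf_left (y := BasedFunctor.comp pt pr) (isoToFp i₁ (Iso.refl _))
    (repOf_of_equiv (pasteL_isEquivOver pt pr (FibCat.diag t)) (Iso.refl _) (hpr (W V) pt))

theorem diag_qa_iff [IsAffine S] (h𝒳 : AlgSt.IsAlgStack Scheme.fppfPrecoverage 𝒳) :
    AlgSt.RepByAlgSpWith IsQuasiAffineMor (FibCat.diag (FibCat.toSelf 𝒳)) ↔
      ∃ (U : Over S) (x : FibCat.overCat U ⥤ᵇ 𝒳),
        AlgSt.RepByAlgSpWith (LocP @Smooth) x ∧ AlgSt.RepByAlgSpWith IsSurjectiveMor x ∧
          ∀ (V : U.left.Opens), IsAffineOpen V → AlgSt.RepByAlgSpWith IsQuasiAffineMor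
            (BasedFunctor.comp (AlgSt.overMap (Over.homMk V.ι rfl : Over.mk (V.ι ≫ U.hom) ⟶ U)) x) := by
  constructor
  · intro hd
    obtain ⟨U, x, hx, hxs⟩ := h𝒳.atlas
    exact ⟨U, x, hx, hxs, fun V hV =>
      haveI : IsAffine (Over.mk (V.ι ≫ U.hom)).left := hV
      qa_affine_source h𝒳.isStack.1 hd _⟩
  · rintro ⟨U, x, hx, hxs, h⟩
    exact diag_qa_of_cover h𝒳 (with_locP_mono smooth_le_flat hx) (with_locP_mono smooth_le_lfp hx) hxs h

end Groth.Agent.QAMor14
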